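import Cfsg.Agent.H113.PSU.Rank3_m3
import Cfsg.Agent.H477.HC.Arith_m3
import Cfsg.Agent.ClassicalGeometry.SympBasic
import Cfsg.Agent.LieClassical.SympCenter
import Mathlib.LinearAlgebra.Projectivization.Action
import Mathlib.LinearAlgebra.Projectivization.Cardinality
import Cfsg.Agent.Prune
set_option linter.all false
prune_inst 0x7f00000000000000000000000000000000000000000000000000000000000000000000000000000000000000000000000000000000000000000000000000000000000000000000000000000000000000003fffffffffffffffffffffffffffbeffbdffffffff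
open scoped Cfsg.Agent.FastGrp

/-!
# The rank 3 action of the symplectic group on points (helper677)

`exists_chars` : `PSp_{2m}(q)`, `m ≥ 2`, has irreducible characters of degrees `f`, `g`,
`2 (q - 1) f = q (q^m + 1) (q^(m-1) - 1)`-type formulas (see the statement); in particular `PSp_4(3)` has
irreducible characters of degrees `24` and `15`.
-/

set_option autoImplicit false
set_option linter.unusedSectionVars false

namespace Cfsg.Agent.H677.SpRank

open Cfsg Cfsg.Agent.ClassicalGeometry.SympBasic Matrix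
open Cfsg.Agent.H690.Spor.RankThree Cfsg.Agent.H690.Spor.RankThree.R3
open scoped LinearAlgebra.Projectivization

universe u

variable {m : ℕ} {F : Type u} [Field F]

/-- The natural action of the symplectic group. -/
@[reducible] def act (m : ℕ) (F : Type u) [Field F] :
    DistribMulAction (Matrix.symplecticGroup (Fin m) F) (Fin m ⊕ Fin m → F) where
  smul g v := (g : Matrix (Fin m ⊕ Fin m) (Fin m ⊕ Fin m) F) *ᵥ v
  one_smul v := Matrix.one_mulVec v
  mul_smul g h v := (Matrix.mulVec_mulVec v g.1 h.1).symm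
  smul_zero g := Matrix.mulVec_zero g.1
  smul_add g := Matrix.mulVec_add g.1

attribute [local instance] act

instance comm : SMulCommClass (Matrix.symplecticGroup (Fin m) F) F (Fin m ⊕ Fin m → F) where
  smul_comm g c v := Matrix.mulVec_smul g.1 c v

theorem smul_def (g : Matrix.symplecticGroup (Fin m) F) (v : Fin m ⊕ Fin m → F) :
    g • v = (g : Matrix (Fin m ⊕ Fin m) (Fin m ⊕ Fin m) F) *ᵥ v := rfl

/-- The points. -/
abbrev Pt (m : ℕ) (F : Type u) [Field F] : Type u := ℙ F (Fin m ⊕ Fin m → F)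

/-- Orthogonal distinct points. -/
def Rel (x y : Pt m F) : Prop := x ≠ y ∧ sympForm m F x.rep y.rep = 0

theorem perp_iff {v w : Fin m ⊕ Fin m → F} (hv : v ≠ 0) (hw : w ≠ 0) :
    sympForm m F (Projectivization.mk F v hv).rep (Projectivization.mk F w hw).rep = 0 ↔ sympForm m F v w = 0 := by
  obtain ⟨a, ha⟩ := Projectivization.exists_smul_eq_mk_rep F v hv
  obtain ⟨b, hb⟩ := Projectivization.exists_smul_eq_mk_rep F w hw
  rw [← ha, ← hb, Units.smul_def, Units.smul_def, sympForm_smul_left, sympForm_smul_right]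
  simp only [a.ne_zero, b.ne_zero, _root_.mul_eq_zero, _root_.false_or]

theorem mk_ne_iff {v w : Fin m ⊕ Fin m → F} (hv : v ≠ 0) (hw : w ≠ 0) :
    Projectivization.mk F v hv ≠ Projectivization.mk F w hw ↔ ∀ c : F, w ≠ c • v := by
  rw [Ne, eq_comm, Projectivization.mk_eq_mk_iff']
  push Not
  exact ⟨fun h c hc => h c hc.symm, fun h c hc => h c hc.symm⟩

/-- `u^⊥⊥ = ⟨u⟩` -/
theorem mem_span_of_perp {u w : Fin m ⊕ Fin m → F} (hu : u ≠ 0)
    (h : ∀ z, sympForm m F u z = 0 → sympForm m F w z = 0) : ∃ c : F, w = c • u := by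
  obtain ⟨z, hz, -⟩ := exists_both_ne_zero hu hu
  refine ⟨sympForm m F w z * (sympForm m F u z)⁻¹, eq_of_forall_sympForm_right fun y => ?_⟩
  have h1 := h (y - (sympForm m F u y * (sympForm m F u z)⁻¹) • z) (by
    rw [sympForm_sub_right, sympForm_smul_right, mul_assoc, inv_mul_cancel₀ hz, mul_one, sub_self])
  rw [sympForm_sub_right, sympForm_smul_right, sub_eq_zero] at h1
  rw [h1, sympForm_smul_left]
  ring

theorem fix_perp {u v w : Fin m ⊕ Fin m → F} (hu : u ≠ 0) (hv : sympForm m F u v = 0)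
    (hw : sympForm m F u w = 0) (hv' : ∀ c : F, v ≠ c • u) (hw' : ∀ c : F, w ≠ c • u) :
    ∃ A : Matrix.symplecticGroup (Fin m) F, A • u = u ∧ A • v = w := by
  by_cases hvw : sympForm m F v w = 0
  · have h1 : ∃ a, sympForm m F u a = 0 ∧ sympForm m F v a ≠ 0 := by
      by_contra hcon
      push Not at hcon
      obtain ⟨c, hc⟩ := mem_span_of_perp hu hcon
      exact hv' c hc
    have h2 : ∃ a, sympForm m F u a = 0 ∧ sympForm m F w a ≠ 0 := by
      by_contra hcon
      push Not at hcon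
      obtain ⟨c, hc⟩ := mem_span_of_perp hu hcon
      exact hw' c hc
    obtain ⟨z, hz, hvz, hwz⟩ : ∃ z, sympForm m F u z = 0 ∧ sympForm m F v z ≠ 0 ∧ sympForm m F w z ≠ 0 := by
      obtain ⟨a, ha, ha'⟩ := h1
      obtain ⟨b, hb, hb'⟩ := h2
      by_cases h3 : sympForm m F w a = 0
      · by_cases h4 : sympForm m F v b = 0
        · refine ⟨a + b, ?_, ?_, ?_⟩
          · rw [sympForm_add_right, ha, hb, add_zero]
          · rwa [sympForm_add_right, h4, add_zero]
          · rwa [sympForm_add_right, h3, zero_add]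
        · exact ⟨b, hb, h4, hb'⟩
      · exact ⟨a, ha, ha', h3⟩
    have hzw : sympForm m F z w ≠ 0 := by rw [sympForm_swap]; exact neg_ne_zero.2 hwz
    refine ⟨transv (w - z) (sympForm m F z w)⁻¹ * transv (z - v) (sympForm m F v z)⁻¹, ?_, ?_⟩
    · rw [mul_smul, smul_def, smul_def, coe_transv, coe_transv, transv_sub_mulVec_of_eq (u := u) _ (hv.trans hz.symm),
        transv_sub_mulVec_of_eq (u := u) _ (hz.trans hw.symm)]
    · rw [mul_smul, smul_def, smul_def, coe_transv, coe_transv, transv_sub_mulVec hvz, transv_sub_mulVec hzw]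
  · refine ⟨transv (w - v) (sympForm m F v w)⁻¹, ?_, ?_⟩
    · rw [smul_def, coe_transv, transv_sub_mulVec_of_eq (u := u) _ (hv.trans hw.symm)]
    · rw [smul_def, coe_transv, transv_sub_mulVec hvw]

theorem form_smul (g : Matrix.symplecticGroup (Fin m) F) (v w : Fin m ⊕ Fin m → F) :
    sympForm m F (g • v) (g • w) = sympForm m F v w := sympForm_mulVec g.2 v w

theorem exists_move {v w : Fin m ⊕ Fin m → F} (hv : v ≠ 0) (hw : w ≠ 0) :
    ∃ g : Matrix.symplecticGroup (Fin m) F, g • v = w := by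
  obtain ⟨A, -, hA⟩ := exists_transvGroup_mulVec_eq hv hw
  exact ⟨A, hA⟩

theorem rel_mk_iff {v w : Fin m ⊕ Fin m → F} (hv : v ≠ 0) (hw : w ≠ 0) :
    Rel (Projectivization.mk F v hv) (Projectivization.mk F w hw) ↔ (∀ c : F, w ≠ c • v) ∧ sympForm m F v w = 0 := by
  unfold Rel
  rw [mk_ne_iff, perp_iff]

theorem rel_smul (g : Matrix.symplecticGroup (Fin m) F) (x y : Pt m F) (h : Rel x y) : Rel (g • x) (g • y) := by
  induction x using Projectivization.ind with
  | h v hv =>
  induction y using Projectivization.ind with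
  | h w hw =>
  rw [Projectivization.smul_mk, Projectivization.smul_mk, rel_mk_iff]
  rw [rel_mk_iff] at h
  refine ⟨fun c hc => h.1 c ?_, by rw [form_smul]; exact h.2⟩
  rw [← smul_comm] at hc
  have := congrArg (fun z => g⁻¹ • z) hc
  simpa using this

theorem rel_symm (x y : Pt m F) (h : Rel x y) : Rel y x := by
  refine ⟨h.1.symm, ?_⟩
  rw [sympForm_swap, h.2, neg_zero]

theorem trans_pt (x y : Pt m F) : ∃ g : Matrix.symplecticGroup (Fin m) F, g • x = y := by
  induction x using Projectivization.ind with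
  | h v hv =>
  induction y using Projectivization.ind with
  | h w hw =>
  obtain ⟨g, rfl⟩ := exists_move hv hw
  exact ⟨g, rfl⟩

theorem trans_rel (x y x' y' : Pt m F) (h : Rel x y) (h' : Rel x' y') :
    ∃ g : Matrix.symplecticGroup (Fin m) F, g • x = x' ∧ g • y = y' := by
  obtain ⟨g, rfl⟩ := trans_pt x x'
  suffices h2 : ∃ k : Matrix.symplecticGroup (Fin m) F, k • (g • x) = g • x ∧ k • (g • y) = y' by
    obtain ⟨k, hk, hk'⟩ := h2
    exact ⟨k * g, by rw [mul_smul, hk], by rw [mul_smul, hk']⟩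
  have h1 := rel_smul g _ _ h
  generalize g • x = x1 at h1 h'
  generalize g • y = y1 at h1
  clear h
  induction x1 using Projectivization.ind with
  | h u hu =>
  induction y1 using Projectivization.ind with
  | h v hv =>
  induction y' using Projectivization.ind with
  | h w hw =>
  rw [rel_mk_iff] at h1 h'
  obtain ⟨A, hA, hA'⟩ := fix_perp hu h1.2 h'.2 h1.1 h'.1
  refine ⟨A, ?_, ?_⟩
  · rw [Projectivization.smul_mk]
    congr 1
  · rw [Projectivization.smul_mk]
    congr 1

theorem not_rel_iff {v w : Fin m ⊕ Fin m → F} (hv : v ≠ 0) (hw : w ≠ 0) :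
    (Projectivization.mk F v hv ≠ Projectivization.mk F w hw ∧
      ¬ Rel (Projectivization.mk F v hv) (Projectivization.mk F w hw)) ↔ sympForm m F v w ≠ 0 := by
  constructor
  · rintro ⟨h1, h2⟩ h3
    exact h2 ⟨h1, (perp_iff hv hw).2 h3⟩
  · intro h
    refine ⟨?_, fun h1 => h ((perp_iff hv hw).1 h1.2)⟩
    rw [mk_ne_iff]
    rintro c rfl
    rw [sympForm_smul_right, sympForm_self, mul_zero] at h
    exact h rfl

theorem trans_opp (x y x' y' : Pt m F) (h : x ≠ y) (hr : ¬ Rel x y) (h' : x' ≠ y') (hr' : ¬ Rel x' y') :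
    ∃ g : Matrix.symplecticGroup (Fin m) F, g • x = x' ∧ g • y = y' := by
  induction x using Projectivization.ind with
  | h v hv =>
  induction y using Projectivization.ind with
  | h w hw =>
  induction x' using Projectivization.ind with
  | h v' hv' =>
  induction y' using Projectivization.ind with
  | h w' hw' =>
  have h1 := (not_rel_iff hv hw).1 ⟨h, hr⟩
  have h2 := (not_rel_iff hv' hw').1 ⟨h', hr'⟩
  obtain ⟨A, -, hA, hA'⟩ := exists_transvGroup_hyperbolic (u := v) (v := (sympForm m F v w)⁻¹ • w) (u' := v')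
    (v' := (sympForm m F v' w')⁻¹ • w') (by rw [sympForm_smul_right, inv_mul_cancel₀ h1])
    (by rw [sympForm_smul_right, inv_mul_cancel₀ h2])
  refine ⟨A, ?_, ?_⟩
  · rw [Projectivization.smul_mk, Projectivization.mk_eq_mk_iff']
    exact ⟨1, by rw [one_smul]; exact hA.symm⟩
  · rw [Projectivization.smul_mk, Projectivization.mk_eq_mk_iff']
    refine ⟨sympForm m F v w * (sympForm m F v' w')⁻¹, ?_⟩
    change _ = (A : Matrix (Fin m ⊕ Fin m) (Fin m ⊕ Fin m) F) *ᵥ w
    rw [mul_smul, ← hA', Matrix.mulVec_smul, smul_smul, mul_inv_cancel₀ h1, one_smul]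

section count

variable [Fintype F]

/-- counting points -/
theorem card_pts (P : (Fin m ⊕ Fin m → F) → Prop) (hP : ∀ c : F, c ≠ 0 → ∀ v, P v → P (c • v)) :
    (Nat.card F - 1) * Nat.card {x : Pt m F // P x.rep} = Nat.card {v : Fin m ⊕ Fin m → F // v ≠ 0 ∧ P v} := by
  classical
  let φ : Fˣ × {x : Pt m F // P x.rep} → {v : Fin m ⊕ Fin m → F // v ≠ 0 ∧ P v} := fun p =>
    ⟨(p.1 : F) • p.2.1.rep, smul_ne_zero p.1.ne_zero (Projectivization.rep_nonzero _), hP _ p.1.ne_zero _ p.2.2⟩
  have hφ : Function.Bijective φ := by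
    constructor
    · rintro ⟨c, x⟩ ⟨d, y⟩ hcd
      have h1 : (c : F) • x.1.rep = (d : F) • y.1.rep := congrArg Subtype.val hcd
      have h2 : x = y := by
        apply Subtype.ext
        rw [← Projectivization.mk_rep x.1, ← Projectivization.mk_rep y.1, Projectivization.mk_eq_mk_iff]
        refine ⟨c⁻¹ * d, ?_⟩
        rw [mul_smul, Units.smul_def d, ← h1, ← Units.smul_def, inv_smul_smul]
      subst h2
      have h3 : ((c : F) - d) • x.1.rep = 0 := by rw [sub_smul, h1, sub_self]
      have h4 : (c : F) = d := by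
        rcases smul_eq_zero.1 h3 with h5 | h5
        · exact sub_eq_zero.1 h5
        · exact absurd h5 (Projectivization.rep_nonzero _)
      rw [Units.ext h4]
    · rintro ⟨v, h0, hv⟩
      obtain ⟨a, ha⟩ := Projectivization.exists_smul_eq_mk_rep F v h0
      have h1 : P (Projectivization.mk F v h0).rep := by
        rw [← ha]; exact hP _ a.ne_zero _ hv
      refine ⟨(a⁻¹, ⟨Projectivization.mk F v h0, h1⟩), Subtype.ext ?_⟩
      change ((a⁻¹ : Fˣ) : F) • (Projectivization.mk F v h0).rep = v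
      rw [← ha, ← Units.smul_def, inv_smul_smul]
  rw [← Nat.card_congr (Equiv.ofBijective φ hφ), Nat.card_prod, Nat.card_units]

theorem card_ne_zero (P : (Fin m ⊕ Fin m → F) → Prop) (h0 : P 0) :
    Nat.card {v : Fin m ⊕ Fin m → F // v ≠ 0 ∧ P v} + 1 = Nat.card {v : Fin m ⊕ Fin m → F // P v} := by
  classical
  rw [Nat.card_eq_fintype_card, Nat.card_eq_fintype_card, Fintype.card_subtype, Fintype.card_subtype]
  have h1 : Finset.univ.filter (fun v : Fin m ⊕ Fin m → F => P v) =
      insert 0 (Finset.univ.filter (fun v : Fin m ⊕ Fin m → F => v ≠ 0 ∧ P v)) := by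
    ext v
    simp only [Finset.mem_filter, Finset.mem_univ, true_and, Finset.mem_insert]
    by_cases hv : v = 0
    · subst hv; simp [h0]
    · simp [hv]
  rw [h1, Finset.card_insert_of_notMem (by simp only [_root_.ne_eq, _root_.Finset.mem_filter, _root_.Finset.mem_univ, _root_.not_true_eq_false, _root_.false_and, _root_.and_false, _root_.not_false_eq_true])]

/-- The functional `⟨u, ·⟩`. -/
def fn (u : Fin m ⊕ Fin m → F) : (Fin m ⊕ Fin m → F) →+ F where
  toFun v := sympForm m F u v
  map_zero' := sympForm_zero_right u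
  map_add' v w := sympForm_add_right u v w

theorem fn_apply (u v : Fin m ⊕ Fin m → F) : fn u v = sympForm m F u v := rfl

theorem card_V : Nat.card (Fin m ⊕ Fin m → F) = Nat.card F ^ (2 * m) := by
  rw [Nat.card_fun, Nat.card_sum, Nat.card_eq_fintype_card (α := Fin m), Fintype.card_fin, two_mul]

theorem card_perp {u : Fin m ⊕ Fin m → F} (hu : u ≠ 0) :
    Nat.card {v : Fin m ⊕ Fin m → F // sympForm m F u v = 0} * Nat.card F = Nat.card F ^ (2 * m) := by
  obtain ⟨z, hz, -⟩ := exists_both_ne_zero hu hu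
  have hs : Function.Surjective (fn u) := fun a => ⟨(a * (sympForm m F u z)⁻¹) • z, by
    rw [fn_apply, sympForm_smul_right, mul_assoc, inv_mul_cancel₀ hz, mul_one]⟩
  have h1 := (fn u).ker.card_mul_index
  rw [AddSubgroup.index_ker, AddMonoidHom.range_eq_top.2 hs, card_V, AddSubgroup.card_top] at h1
  exact h1

theorem card_perp_two {u w : Fin m ⊕ Fin m → F} (h : sympForm m F u w ≠ 0) :
    Nat.card {v : Fin m ⊕ Fin m → F // sympForm m F u v = 0 ∧ sympForm m F w v = 0} * Nat.card F ^ 2 =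
      Nat.card F ^ (2 * m) := by
  have h' : sympForm m F w u ≠ 0 := by rw [sympForm_swap]; exact neg_ne_zero.2 h
  let f : (Fin m ⊕ Fin m → F) →+ F × F := (fn u).prod (fn w)
  have hs : Function.Surjective f := by
    rintro ⟨a, b⟩
    refine ⟨(b * (sympForm m F w u)⁻¹) • u + (a * (sympForm m F u w)⁻¹) • w, ?_⟩
    apply Prod.ext
    · change sympForm m F u _ = a
      rw [sympForm_add_right, sympForm_smul_right, sympForm_smul_right, sympForm_self, mul_zero, zero_add, mul_assoc,
        inv_mul_cancel₀ h, mul_one]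
    · change sympForm m F w _ = b
      rw [sympForm_add_right, sympForm_smul_right, sympForm_smul_right, sympForm_self, mul_zero, add_zero, mul_assoc,
        inv_mul_cancel₀ h', mul_one]
  have h1 := f.ker.card_mul_index
  rw [AddSubgroup.index_ker, AddMonoidHom.range_eq_top.2 hs, card_V, AddSubgroup.card_top, Nat.card_prod] at h1
  rw [pow_two, ← h1]
  congr 1
  refine Nat.card_congr (Equiv.subtypeEquivRight fun v => ?_)
  rw [AddMonoidHom.mem_ker]
  exact (Prod.ext_iff (x := f v) (y := 0)).symm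

theorem rep_mk_perp {u : Fin m ⊕ Fin m → F} (hu : u ≠ 0) (x : Pt m F) :
    sympForm m F (Projectivization.mk F u hu).rep x.rep = 0 ↔ sympForm m F u x.rep = 0 := by
  obtain ⟨a, ha⟩ := Projectivization.exists_smul_eq_mk_rep F u hu
  rw [← ha, Units.smul_def, sympForm_smul_left]
  simp [a.ne_zero]

/-- **the parameters of the rank 3 action** -/
theorem r3 (hm : 2 ≤ m) : ∃ b : ℕ, 0 < b ∧ (Nat.card F - 1) * b + 1 = Nat.card F ^ (2 * m - 2) ∧
    R3 (Matrix.symplecticGroup (Fin m) F) (Pt m F) Rel (Nat.card F * b) (Nat.card F ^ (2 * m - 1)) ∧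
    ∃ x₀ y₀ : Pt m F, x₀ ≠ y₀ ∧ ¬ Rel x₀ y₀ ∧ com Rel x₀ y₀ = b := by
  classical
  have : Fintype (Pt m F) := Fintype.ofFinite _
  obtain ⟨q, hq⟩ : ∃ q, q = Nat.card F := ⟨_, rfl⟩
  have hq1 : 1 < q := by rw [hq]; exact Finite.one_lt_card
  obtain ⟨c, rfl⟩ : ∃ c, q = c + 1 := ⟨q - 1, by omega⟩
  have hc0 : 0 < c := by omega
  -- a hyperbolic pair
  obtain ⟨u, hu⟩ : ∃ u : Fin m ⊕ Fin m → F, u ≠ 0 := by
    have : Nonempty (Fin m) := ⟨⟨0, by omega⟩⟩
    exact exists_ne 0
  obtain ⟨w, hw, -⟩ := exists_both_ne_zero hu hu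
  have hw0 : w ≠ 0 := by rintro rfl; rw [sympForm_zero_right] at hw; exact hw rfl
  have hcom : c * com Rel (Projectivization.mk F u hu) (Projectivization.mk F w hw0) + 1 =
      (c + 1) ^ (2 * m - 2) := by
    have h1 := card_pts (F := F) (m := m) (fun v => sympForm m F u v = 0 ∧ sympForm m F w v = 0)
      (fun c _ v hv => ⟨by rw [sympForm_smul_right, hv.1, mul_zero], by rw [sympForm_smul_right, hv.2, mul_zero]⟩)
    have h2 := card_ne_zero (F := F) (m := m) (fun v => sympForm m F u v = 0 ∧ sympForm m F w v = 0)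
      ⟨sympForm_zero_right u, sympForm_zero_right w⟩
    have h3 := card_perp_two hw
    rw [← h2, ← h1, ← hq] at h3
    have h4 : com Rel (Projectivization.mk F u hu) (Projectivization.mk F w hw0) =
        Nat.card {x : Pt m F // sympForm m F u x.rep = 0 ∧ sympForm m F w x.rep = 0} := by
      refine Nat.card_congr (Equiv.subtypeEquivRight fun x => ?_)
      constructor
      · rintro ⟨h5, h6⟩
        refine ⟨(rep_mk_perp hu x).1 h5.2, (rep_mk_perp hw0 x).1 ?_⟩
        rw [sympForm_swap, h6.2, neg_zero]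
      · rintro ⟨h5, h6⟩
        have h7 := (rep_mk_perp hu x).2 h5
        have h8 := (rep_mk_perp hw0 x).2 h6
        have h9 : ¬ sympForm m F (Projectivization.mk F u hu).rep (Projectivization.mk F w hw0).rep = 0 := by
          rw [perp_iff]; exact hw
        refine ⟨⟨?_, h7⟩, ?_, ?_⟩
        · rintro rfl
          apply h9
          rw [sympForm_swap, h8, neg_zero]
        · rintro rfl
          exact h9 h7
        · rw [sympForm_swap, h8, neg_zero]
    rw [h4]
    have h5 : (c + 1) ^ (2 * m) = (c + 1) ^ (2 * m - 2) * (c + 1) ^ 2 := by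
      rw [← pow_add]; congr 1; omega
    rw [h5, Nat.add_sub_cancel] at h3
    exact Nat.eq_of_mul_eq_mul_right (by positivity) h3
  obtain ⟨b, hb⟩ : ∃ b, b = com Rel (Projectivization.mk F u hu) (Projectivization.mk F w hw0) := ⟨_, rfl⟩
  rw [← hb] at hcom
  have hb0 : 0 < b := by
    rcases Nat.eq_zero_or_pos b with h | h
    · rw [h, mul_zero, zero_add] at hcom
      have h1 : 1 < (c + 1) ^ (2 * m - 2) := Nat.one_lt_pow (by omega) (by omega)
      omega
    · exact h
  have hk : ∀ x : Pt m F, Nat.card {y // Rel x y} = (c + 1) * b := by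
    intro x
    induction x using Projectivization.ind with
    | h v hv =>
    have h1 := card_pts (F := F) (m := m) (fun z => sympForm m F v z = 0)
      (fun c _ z hz => by rw [sympForm_smul_right, hz, mul_zero])
    have h2 := card_ne_zero (F := F) (m := m) (fun z => sympForm m F v z = 0) (sympForm_zero_right v)
    have h3 := card_perp hv
    rw [← h2, ← h1, ← hq] at h3
    have h4 : Nat.card {x : Pt m F // sympForm m F v x.rep = 0} =
        Nat.card {y // Rel (Projectivization.mk F v hv) y} + 1 := by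
      rw [Nat.card_eq_fintype_card, Nat.card_eq_fintype_card, Fintype.card_subtype, Fintype.card_subtype]
      have h5 : Finset.univ.filter (fun x : Pt m F => sympForm m F v x.rep = 0) =
          insert (Projectivization.mk F v hv) (Finset.univ.filter (fun x : Pt m F => Rel (Projectivization.mk F v hv) x)) := by
        ext x
        simp only [Finset.mem_filter, Finset.mem_univ, true_and, Finset.mem_insert]
        rw [← rep_mk_perp hv]
        constructor
        · intro h6
          by_cases hx : x = Projectivization.mk F v hv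
          · exact Or.inl hx
          · exact Or.inr ⟨fun h => hx h.symm, h6⟩
        · rintro (rfl | h6)
          · exact sympForm_self _
          · exact h6.2
      rw [h5, Finset.card_insert_of_notMem (fun h => (Finset.mem_filter.1 h).2.1 rfl)]
    rw [h4, Nat.add_sub_cancel] at h3
    have h5 : (c + 1) ^ (2 * m) = (c + 1) ^ (2 * m - 2) * (c + 1) * (c + 1) := by
      rw [← pow_succ, ← pow_succ]; congr 1; omega
    rw [h5] at h3
    have h6 := Nat.eq_of_mul_eq_mul_right (by positivity) h3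
    rw [← hcom] at h6
    have h7 : c * (Nat.card {y // Rel (Projectivization.mk F v hv) y}) = c * ((c + 1) * b) := by
      linarith only [h6]
    exact Nat.eq_of_mul_eq_mul_left hc0 h7
  have hn : Nat.card (Pt m F) = 1 + (c + 1) * b + (c + 1) ^ (2 * m - 1) := by
    have h1 := Projectivization.card' F (Fin m ⊕ Fin m → F)
    rw [card_V, ← hq, Nat.add_sub_cancel] at h1
    have h5 : (c + 1) ^ (2 * m) = (c + 1) ^ (2 * m - 2) * (c + 1) * (c + 1) := by
      rw [← pow_succ, ← pow_succ]; congr 1; omega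
    have h6 : (c + 1) ^ (2 * m - 1) = (c + 1) ^ (2 * m - 2) * (c + 1) := by
      rw [← pow_succ]; congr 1; omega
    rw [h5, ← hcom] at h1
    rw [h6, ← hcom]
    apply Nat.eq_of_mul_eq_mul_left hc0
    linarith only [h1]
  rw [← hq, Nat.add_sub_cancel]
  refine ⟨b, hb0, hcom, ⟨⟨fun x y => trans_pt x y⟩, rel_symm, fun x hx => hx.1 rfl, rel_smul, trans_rel, trans_opp, hk,
    by positivity, by positivity, hn⟩, _, _, ?_, ?_, hb.symm⟩
  · exact ((not_rel_iff hu hw0).2 hw).1
  · exact ((not_rel_iff hu hw0).2 hw).2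

/-- **The rank 3 characters of `PSp_{2m}(q)`, `m ≥ 2`**. -/
theorem exists_chars (hm : 2 ≤ m) : ∃ (χ₁ χ₂ : PSp m F → ℂ) (f g : ℕ), IsIrrCharacter _ χ₁ ∧ IsIrrCharacter _ χ₂ ∧
    χ₁ 1 = f ∧ χ₂ 1 = g ∧
    2 * ((Nat.card F : ℤ) - 1) * f = Nat.card F * ((Nat.card F : ℤ) ^ m - 1) * ((Nat.card F : ℤ) ^ (m - 1) + 1) ∧
    2 * ((Nat.card F : ℤ) - 1) * g = Nat.card F * ((Nat.card F : ℤ) ^ m + 1) * ((Nat.card F : ℤ) ^ (m - 1) - 1) := by
  classical
  have : Fintype (Pt m F) := Fintype.ofFinite _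
  obtain ⟨b, hb0, hb, hr3, x₀, y₀, hxy, hR, hcom⟩ := r3 (F := F) hm
  have hq1 : 1 < Nat.card F := Finite.one_lt_card
  obtain ⟨Q, hQ⟩ : ∃ Q : ℤ, Q = (Nat.card F : ℤ) := ⟨_, rfl⟩
  have hQ2 : 2 ≤ Q := by rw [hQ]; exact_mod_cast hq1
  obtain ⟨P, hP⟩ : ∃ P : ℤ, P = (Nat.card F : ℤ) ^ (m - 1) := ⟨_, rfl⟩
  have hP0 : 0 < P := by rw [hP]; positivity
  have hb' : (Q - 1) * b + 1 = P ^ 2 := by
    have h1 : (((Nat.card F - 1) * b + 1 : ℕ) : ℤ) = ((Nat.card F ^ (2 * m - 2) : ℕ) : ℤ) := by rw [hb]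
    push_cast [Nat.cast_sub hq1.le] at h1
    rw [hQ, hP, h1, ← pow_mul]
    congr 1
    omega
  have hm0 : (Nat.card F : ℤ) ^ m = Q * P := by
    rw [hP, hQ, ← pow_succ']; congr 1; omega
  have hl : ((Nat.card F ^ (2 * m - 1) : ℕ) : ℤ) = Q * P ^ 2 := by
    push_cast
    rw [hP, ← pow_mul, hQ, ← pow_succ']; congr 1; omega
  have hk : ((Nat.card F * b : ℕ) : ℤ) = Q * b := by push_cast; rw [hQ]
  obtain ⟨χ₁, χ₂, f, g, hf, hg, h1, h2, -, h3⟩ := Cfsg.Agent.H113.PSU.Rank3.frame_exact hr3 hxy hR hcom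
    (r := P - 1) (s := -P - 1) (by omega) (by rw [hk]; linear_combination hb')
    (by rw [hl, hk]; linear_combination (-(Q * b)) * hb')
  rw [hl, hk] at h1 h2
  have hcen : ∀ z ∈ Subgroup.center (Matrix.symplecticGroup (Fin m) F), ∀ y : Pt m F, z • y = y := by
    intro z hz y
    obtain ⟨a, ha⟩ := (Cfsg.Agent.LieClassical.SympCenter.mem_center_iff m z).1 hz
    induction y using Projectivization.ind with
    | h v hv =>
    rw [Projectivization.smul_mk, Projectivization.mk_eq_mk_iff']
    refine ⟨a, ?_⟩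
    change _ = z.1 *ᵥ v
    rw [ha, Matrix.smul_mulVec, Matrix.one_mulVec]
  obtain ⟨η₁, hη₁, hη₁'⟩ := Cfsg.Agent.H477.HC.exists_quot (Subgroup.center (Matrix.symplecticGroup (Fin m) F)) χ₁.2
    (fun z hz => by rw [(h3 z (hcen z hz)).1, hf])
  obtain ⟨η₂, hη₂, hη₂'⟩ := Cfsg.Agent.H477.HC.exists_quot (Subgroup.center (Matrix.symplecticGroup (Fin m) F)) χ₂.2
    (fun z hz => by rw [(h3 z (hcen z hz)).2, hg])
  refine ⟨η₁, η₂, f, g, hη₁, hη₂, ?_, ?_, ?_, ?_⟩
  · rw [← hf, ← hη₁' 1]; rfl
  · rw [← hg, ← hη₂' 1]; rfl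
  · rw [hm0, ← hP, ← hQ]
    apply mul_left_cancel₀ hP0.ne'
    linear_combination (Q - 1) * h1 + (P * Q) * hb'
  · rw [hm0, ← hP, ← hQ]
    apply mul_left_cancel₀ hP0.ne'
    linear_combination (Q - 1) * h2 + (P * Q) * hb'

end count

end Cfsg.Agent.H677.SpRank
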